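import Groth.Agent.ParaFX.Descent
import Groth.Agent.S2547
import Groth.Agent.GGDesc.Semilocal
import Groth.Agent.FreeEquiv.Basic
import Groth.Agent.H23.PullPush
import Groth.Prelude.Def_CohBC2

/-!
Invertible modules trivialized by a faithfully flat base change along `f` with `O_Y = f_* O_X` come from `Y`.
-/

universe u

open CategoryTheory CategoryTheory.Limits AlgebraicGeometry TopologicalSpace Opposite

set_option linter.style.haveILetI false
set_option backward.isDefEq.respectTransparency false
set_option backward.isDefEq.respectTransparency.types false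

namespace Groth.Agent.ParaFX

noncomputable section

variable {X Y X' Y' : Scheme.{u}}

theorem isInvertible_of_pullback (g : Y' ⟶ Y) [Flat g] [Surjective g] [QuasiCompact g] {M : Y.Modules}
    (hM : Coh.IsQCoh M) (hN : PicF.IsInvertible ((Scheme.Modules.pullback g).obj M)) :
    PicF.IsInvertible M := by
  have hlf : FlatMod.IsFinLocFree M :=
    FTDescent.isFinLocFree_of_pullback g hM (H23.PullPush.isFinLocFree_of_isInvertible hN)
  have hN1 : FlatMod.IsFinLocFreeOfRank 1 ((Scheme.Modules.pullback g).obj M) := fun x =>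
    let ⟨T, hx, ⟨e⟩⟩ := hN x
    ⟨T, hx, ⟨e ≪≫ (coproductUniqueIso (fun _ : Fin 1 => Coh.structureModule (T : Scheme.{u}))).symm⟩⟩
  have hM1 : FlatMod.IsFinLocFreeOfRank 1 M := by
    refine ConsPropLib.isFinLocFreeOfRank_iff.2 ⟨hlf, fun x => ?_⟩
    obtain ⟨y, rfl⟩ := g.surjective x
    rw [← RGLib.Lim8.finrank_stalk_pullback g hlf y]
    exact (ConsPropLib.isFinLocFreeOfRank_iff.1 hN1).2 y
  exact fun x =>
    let ⟨T, hx, ⟨e⟩⟩ := hM1 x
    ⟨T, hx, ⟨e ≪≫ coproductUniqueIso _⟩⟩

variable (f : X ⟶ Y) (g : Y' ⟶ Y) (g' : X' ⟶ X) (f' : X' ⟶ Y')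

theorem isIso_bc0 (h : IsPullback g' f' f g) [QuasiCompact f] [QuasiSeparated f] [Flat g]
    (M : X.Modules) [Coh.IsQCoh M] : IsIso (CohBC.bc0 f g f' g' h.w M) := by
  convert Groth.Agent.S11133.result f g g' f' h M using 1
  any_goals rfl
  simp [CohBC.bc0, CohBC.bc0Adj, Adjunction.homEquiv_counit, Functor.map_comp, Category.assoc]

theorem isIso_counit_of_trivial (h : IsPullback g' f' f g) [Flat g'] [Surjective g'] (L : X.Modules)
    (hbc : IsIso (CohBC.bc0 f g f' g' h.w L))
    (ε : (Scheme.Modules.pullback g').obj L ≅ Coh.structureModule X')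
    (e : (Scheme.Modules.pullback g').obj ((Scheme.Modules.pullback f).obj ((Scheme.Modules.pushforward f).obj L)) ≅
      Coh.structureModule X') :
    IsIso ((Scheme.Modules.pullbackPushforwardAdjunction f).counit.app L) := by
  haveI := Groth.Agent.S2547.result g'
  let c := (Scheme.Modules.pullbackPushforwardAdjunction f).counit.app L
  haveI hepi : Epi ((Scheme.Modules.pullback g').map c) := by
    constructor
    intro N α β hαβ
    let adj' := Scheme.Modules.pullbackPushforwardAdjunction g'
    let adj := Scheme.Modules.pullbackPushforwardAdjunction f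
    let adjg := Scheme.Modules.pullbackPushforwardAdjunction g
    have h1 : c ≫ adj'.homEquiv _ _ α = c ≫ adj'.homEquiv _ _ β := by
      rw [← Adjunction.homEquiv_naturality_left, ← Adjunction.homEquiv_naturality_left, hαβ]
    have h2 : (Scheme.Modules.pushforward f).map (adj'.homEquiv L N α) =
        (Scheme.Modules.pushforward f).map (adj'.homEquiv L N β) := by
      have key := fun (z : L ⟶ (Scheme.Modules.pushforward g').obj N) =>
        adj.right_triangle_components_assoc L ((Scheme.Modules.pushforward f).map z)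
      refine ((key _).symm.trans ?_).trans (key _)
      exact congrArg (fun z => adj.unit.app _ ≫ z) ((Functor.map_comp _ _ _).symm.trans
        ((congrArg (Scheme.Modules.pushforward f).map h1).trans (Functor.map_comp _ _ _)))
    let σ := Scheme.Modules.pushforwardComp g' f ≪≫
      Scheme.Modules.pushforwardCongr h.w ≪≫ (Scheme.Modules.pushforwardComp f' g).symm
    have hadj : ∀ γ : (Scheme.Modules.pullback g').obj L ⟶ N,
        CohBC.bc0Adj f g f' g' h.w L ≫
          (Scheme.Modules.pushforward g).map ((Scheme.Modules.pushforward f').map γ) =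
        (Scheme.Modules.pushforward f).map (adj'.homEquiv _ _ γ) ≫ σ.hom.app N := by
      intro γ
      rw [Adjunction.homEquiv_unit, Functor.map_comp, Category.assoc]
      have hn := σ.hom.naturality γ
      dsimp only [Functor.comp_obj, Functor.comp_map] at hn
      rw [hn]
      simp [CohBC.bc0Adj, σ, adj']
    have h3 : CohBC.bc0 f g f' g' h.w L ≫ (Scheme.Modules.pushforward f').map α =
        CohBC.bc0 f g f' g' h.w L ≫ (Scheme.Modules.pushforward f').map β := by
      rw [CohBC.bc0, ← Adjunction.homEquiv_naturality_right_symm, ← Adjunction.homEquiv_naturality_right_symm,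
        hadj α, hadj β, h2]
    haveI := hbc
    have h4 := (cancel_epi _).1 h3
    refine (cancel_epi ε.inv).1 (FreeEquiv.hom_ext_one _ _ ?_)
    let x : Γ((Scheme.Modules.pushforward f').obj ((Scheme.Modules.pullback g').obj L), ⊤) :=
      ε.inv.app ⊤ (1 : Γ(X', ⊤))
    have h5 := congrArg (fun φ : (Scheme.Modules.pushforward f').obj ((Scheme.Modules.pullback g').obj L) ⟶
      (Scheme.Modules.pushforward f').obj N => φ.app ⊤ x) h4
    exact h5
  haveI : Epi (e.inv ≫ (Scheme.Modules.pullback g').map c ≫ ε.hom) := inferInstance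
  haveI hi : IsIso (e.inv ≫ (Scheme.Modules.pullback g').map c ≫ ε.hom) :=
    GGDesc.isIso_of_epi InvX.isInvertible_structureModule _
  haveI : IsIso ((Scheme.Modules.pullback g').map c) := by
    have h6 : (Scheme.Modules.pullback g').map c =
        e.hom ≫ (e.inv ≫ (Scheme.Modules.pullback g').map c ≫ ε.hom) ≫ ε.inv := by simp
    rw [h6]
    infer_instance
  haveI : Mono c := (Scheme.Modules.pullback g').mono_of_mono_map inferInstance
  haveI : Epi c := (Scheme.Modules.pullback g').epi_of_epi_map inferInstance
  exact isIso_of_mono_of_epi c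

theorem invertible_and_counit_of_trivial [QuasiCompact f] [QuasiSeparated f]
    (hf : ∀ V : Y.Opens, Function.Bijective (f.app V)) [Flat g] [Surjective g] [QuasiCompact g]
    (h : IsPullback g' f' f g) (L : X.Modules) (hL : PicF.IsInvertible L)
    (ε : (Scheme.Modules.pullback g').obj L ≅ Coh.structureModule X') :
    PicF.IsInvertible ((Scheme.Modules.pushforward f).obj L) ∧
    Nonempty ((Scheme.Modules.pullback g).obj ((Scheme.Modules.pushforward f).obj L) ≅ Coh.structureModule Y') ∧
      IsIso ((Scheme.Modules.pullbackPushforwardAdjunction f).counit.app L) := by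
  haveI : Flat g' := MorphismProperty.of_isPullback h.flip ‹Flat g›
  haveI : Surjective g' := MorphismProperty.of_isPullback h.flip ‹Surjective g›
  haveI : Coh.IsQCoh L := QCoh.isQCoh_of_isFinLocFree (H23.PullPush.isFinLocFree_of_isInvertible hL)
  haveI : Coh.IsQCoh (Coh.structureModule X) := QCoh.isQCoh_of_isFinLocFree
    (H23.PullPush.isFinLocFree_of_isInvertible InvX.isInvertible_structureModule)
  haveI hb := isIso_bc0 f g g' f' h L
  haveI hb0 := isIso_bc0 f g g' f' h (Coh.structureModule X)
  obtain ⟨pg⟩ := PicClLib.nonempty_pullback_structureModule g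
  obtain ⟨pg'⟩ := PicClLib.nonempty_pullback_structureModule g'
  obtain ⟨pf'⟩ := PicClLib.nonempty_pullback_structureModule f'
  let a : (Scheme.Modules.pullback g).obj ((Scheme.Modules.pushforward f).obj L) ≅ Coh.structureModule Y' :=
    asIso (CohBC.bc0 f g f' g' h.w L) ≪≫ (Scheme.Modules.pushforward f').mapIso (ε ≪≫ pg'.symm) ≪≫
      (asIso (CohBC.bc0 f g f' g' h.w (Coh.structureModule X))).symm ≪≫
      (Scheme.Modules.pullback g).mapIso (H23.PullPush.structureModuleIsoPush f hf).symm ≪≫ pg
  have hinv : PicF.IsInvertible ((Scheme.Modules.pullback g).obj ((Scheme.Modules.pushforward f).obj L)) :=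
    isInvertible_of_iso a.symm InvX.isInvertible_structureModule
  refine ⟨isInvertible_of_pullback g (QCoh.isQCoh_pushforward f inferInstance) hinv, ⟨a⟩,
    isIso_counit_of_trivial f g g' f' h L hb ε ?_⟩
  exact (Scheme.Modules.pullbackComp g' f).app _ ≪≫ (Scheme.Modules.pullbackCongr h.w).app _ ≪≫
    ((Scheme.Modules.pullbackComp f' g).app _).symm ≪≫ (Scheme.Modules.pullback f').mapIso a ≪≫ pf'

end

end Groth.Agent.ParaFX
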