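import Groth.Agent.ParaFX.Functions
import Groth.Agent.QCoh.Qcqs
import Groth.Agent.PicClLib.Basic
import Groth.Agent.FTDescent.FP
import Groth.Agent.RGLib.Lim8LocFree
import Groth.Agent.ConsPropLib.FibreLocFreeRank
import Groth.Agent.S11133

/-!
Parafactoriality descends along faithfully flat quasi-compact morphisms.
-/

universe u

open CategoryTheory CategoryTheory.Limits AlgebraicGeometry TopologicalSpace Opposite

set_option linter.style.haveILetI false
set_option backward.isDefEq.respectTransparency false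
set_option backward.isDefEq.respectTransparency.types false

namespace Groth.Agent.ParaFX

noncomputable section

variable {U V : Scheme.{u}}

theorem app_bijective_of_trivial (j : U ⟶ V) (T : V.Opens)
    (e : ((Scheme.Modules.pushforward j).obj (Coh.structureModule U)).restrict T.ι ≅
      Coh.structureModule (T : Scheme.{u})) (W : (T : Scheme.{u}).Opens) :
    Function.Bijective (j.app (T.ι ''ᵁ W)) := by
  let θ : Γ(U, j ⁻¹ᵁ (T.ι ''ᵁ W)) → Γ(V, T.ι ''ᵁ W) := fun t => e.hom.app W t
  have hθ : Function.Bijective θ :=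
    ConcreteCategory.bijective_of_isIso (e.hom.app W)
  have hlin : ∀ (a : Γ(V, T.ι ''ᵁ W)) (t : Γ(U, j ⁻¹ᵁ (T.ι ''ᵁ W))),
      θ (j.app (T.ι ''ᵁ W) a * t) = a * θ t := fun a t => by
    have h := e.hom.app_smul (U := W) a t
    refine Eq.trans (congrArg θ ?_) h
    show j.app (T.ι ''ᵁ W) a * t = j.app (T.ι ''ᵁ W) ((T.ι.appIso W).inv a) * t
    rw [Scheme.Opens.ι_appIso]
    rfl
  obtain ⟨c, hc⟩ := hθ.2 1
  have hall : ∀ t, j.app (T.ι ''ᵁ W) (θ t) * c = t := fun t => hθ.1 (by rw [hlin, hc, mul_one])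
  have hu : IsUnit c := isUnit_iff_exists_inv'.2 ⟨_, hall 1⟩
  have hinv : ∀ b, θ (j.app (T.ι ''ᵁ W) b * c) = b := fun b => by rw [hlin, hc, mul_one]
  exact ⟨fun a b hab => by rw [← hinv a, ← hinv b, hab],
    fun t => ⟨θ (t * c), hu.mul_right_cancel (hall (t * c))⟩⟩

theorem sectBij_structureModule (j : U ⟶ V) [IsOpenImmersion j]
    (h : PicF.IsInvertible ((Scheme.Modules.pushforward j).obj (Coh.structureModule U))) :
    SectBij j (Coh.structureModule V) := by
  choose T hT e using h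
  refine sectBij_of_cover j T (fun x => ⟨x, hT x⟩) fun i O O' hle hO hO' => ?_
  have hO2 : (T i).ι ''ᵁ (T i).ι ⁻¹ᵁ O = O := by
    rw [Scheme.Hom.image_preimage_eq_opensRange_inf, Scheme.Opens.opensRange_ι]
    exact inf_eq_right.2 hO
  have hb := app_bijective_of_trivial j (T i) (e i).some ((T i).ι ⁻¹ᵁ O)
  rw [hO2] at hb
  have he : O' = j ''ᵁ j ⁻¹ᵁ O :=
    hO'.trans ((j.image_preimage_eq_opensRange_inf O).trans (inf_comm _ _)).symm
  subst he
  have hkey : j.app O ≫ (j.appIso (j ⁻¹ᵁ O)).inv = V.presheaf.map (homOfLE hle).op :=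
    j.app_appIso_inv O
  haveI : IsIso (j.app O) := (ConcreteCategory.isIso_iff_bijective _).2 hb
  haveI hiso : IsIso (V.presheaf.map (homOfLE hle).op) := by rw [← hkey]; infer_instance
  refine (ConcreteCategory.isIso_iff_bijective _).2 ?_
  exact ConcreteCategory.bijective_of_isIso (V.presheaf.map (homOfLE hle).op)

theorem isInvertible_pushforward_of_flat_descent {U' V' : Scheme.{u}} (j : U ⟶ V) (g : V' ⟶ V)
    (g' : U' ⟶ U) (j' : U' ⟶ V') (hpb : IsPullback g' j' j g) [QuasiCompact j] [QuasiSeparated j]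
    [Flat g] [Surjective g] [QuasiCompact g]
    (h : ∀ L : U'.Modules, PicF.IsInvertible L → PicF.IsInvertible ((Scheme.Modules.pushforward j').obj L))
    (L : U.Modules) (hL : PicF.IsInvertible L) :
    PicF.IsInvertible ((Scheme.Modules.pushforward j).obj L) := by
  haveI : Coh.IsQCoh L := QCoh.isQCoh_of_isFinLocFree (H23.PullPush.isFinLocFree_of_isInvertible hL)
  haveI := Groth.Agent.S11133.result j g g' j' hpb L
  let M := (Scheme.Modules.pushforward j).obj L
  have hM : Coh.IsQCoh M := QCoh.isQCoh_pushforward j inferInstance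
  have hN : PicF.IsInvertible ((Scheme.Modules.pullback g).obj M) :=
    isInvertible_of_iso (asIso ((Scheme.Modules.pullback g).map ((Scheme.Modules.pushforward j).map
        ((Scheme.Modules.pullbackPushforwardAdjunction g').unit.app L)) ≫
      (Scheme.Modules.pullback g).map ((Scheme.Modules.pushforwardComp g' j ≪≫
          Scheme.Modules.pushforwardCongr hpb.w ≪≫ (Scheme.Modules.pushforwardComp j' g).symm).hom.app
        ((Scheme.Modules.pullback g').obj L)) ≫
      (Scheme.Modules.pullbackPushforwardAdjunction g).counit.app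
        ((Scheme.Modules.pushforward j').obj ((Scheme.Modules.pullback g').obj L)))).symm
      (h _ (PicClLib.isInvertible_pullback g' hL))
  have hlf : FlatMod.IsFinLocFree M :=
    FTDescent.isFinLocFree_of_pullback g hM (H23.PullPush.isFinLocFree_of_isInvertible hN)
  have hN1 : FlatMod.IsFinLocFreeOfRank 1 ((Scheme.Modules.pullback g).obj M) := fun x =>
    let ⟨T, hx, ⟨e⟩⟩ := hN x
    ⟨T, hx, ⟨e ≪≫ (coproductUniqueIso (fun _ : Fin 1 => Coh.structureModule (T : Scheme.{u}))).symm⟩⟩
  have hM1 : FlatMod.IsFinLocFreeOfRank 1 M := by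
    refine ConsPropLib.isFinLocFreeOfRank_iff.2 ⟨hlf, fun x => ?_⟩
    obtain ⟨y, rfl⟩ := g.surjective x
    rw [← RGLib.Lim8.finrank_stalk_pullback g hlf y]
    exact (ConsPropLib.isFinLocFreeOfRank_iff.1 hN1).2 y
  exact fun x =>
    let ⟨T, hx, ⟨e⟩⟩ := hM1 x
    ⟨T, hx, ⟨e ≪≫ coproductUniqueIso _⟩⟩

theorem isParafactorialPair_of_flat_descent {X X' : Scheme.{u}} (f : X' ⟶ X) [QuasiCompact f] [Flat f]
    [Surjective f] (Y : Closeds X) (hU : QuasiCompact (X.homOfLE (le_top : Y.compl ≤ ⊤)))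
    (h : ParaF.IsParafactorialPair X' (ParaF.closedsPreimage f Y)) : ParaF.IsParafactorialPair X Y := by
  let Y' := ParaF.closedsPreimage f Y
  have hUι : QuasiCompact (Scheme.Opens.ι (X := X) Y.compl) := by
    have he : (Scheme.Opens.ι (X := X) Y.compl) = X.homOfLE (le_top : Y.compl ≤ ⊤) ≫ (⊤ : X.Opens).ι := by simp
    haveI : IsIso (⊤ : X.Opens).ι := inferInstanceAs (IsIso X.topIso.hom)
    rw [he]
    infer_instance
  have hpush : ∀ (T : X.Opens) (L : ((T ⊓ Y.compl : X.Opens) : Scheme.{u}).Modules), PicF.IsInvertible L →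
      PicF.IsInvertible ((Scheme.Modules.pushforward (X.homOfLE (inf_le_left : T ⊓ Y.compl ≤ T))).obj L) := by
    intro T
    let j := X.homOfLE (inf_le_left : T ⊓ Y.compl ≤ T)
    let j' := X'.homOfLE (inf_le_left : f ⁻¹ᵁ T ⊓ Y'.compl ≤ f ⁻¹ᵁ T)
    let g' := f.resLE (T ⊓ Y.compl) (f ⁻¹ᵁ T ⊓ Y'.compl) (fun _ hx => hx)
    have hsq : IsPullback g' j' j (f ∣_ T) := by
      refine IsOpenImmersion.isPullback g' j' j (f ∣_ T) ?_ ?_
      · simp only [← cancel_mono T.ι, Category.assoc, morphismRestrict_ι]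
        simp [j, j', g', Scheme.Hom.resLE_comp_ι]
      · rw [opensRange_homOfLE_compl, opensRange_homOfLE_compl]
        ext x
        have he : T.ι ((f ∣_ T) x) = f ((f ⁻¹ᵁ T).ι x) := by
          rw [← Scheme.Hom.comp_apply, ← Scheme.Hom.comp_apply, morphismRestrict_ι]
        show T.ι ((f ∣_ T) x) ∈ Y.compl ↔ (f ⁻¹ᵁ T).ι x ∈ Y'.compl
        rw [he]
        rfl
    haveI : QuasiCompact j := by
      have hT : IsPullback (X.homOfLE (inf_le_right : T ⊓ Y.compl ≤ Y.compl)) j (Scheme.Opens.ι (X := X) Y.compl) T.ι := by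
        refine IsOpenImmersion.isPullback _ j (Scheme.Opens.ι (X := X) Y.compl) T.ι (by simp [j]) ?_
        rw [opensRange_homOfLE_compl, Scheme.Opens.opensRange_ι]
      exact MorphismProperty.of_isPullback hT hUι
    haveI : Flat (f ∣_ T) :=
      MorphismProperty.of_isPullback (isPullback_morphismRestrict f T).flip ‹Flat f›
    haveI : Surjective (f ∣_ T) :=
      MorphismProperty.of_isPullback (isPullback_morphismRestrict f T).flip ‹Surjective f›
    haveI : QuasiCompact (f ∣_ T) :=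
      MorphismProperty.of_isPullback (isPullback_morphismRestrict f T).flip ‹QuasiCompact f›
    exact isInvertible_pushforward_of_flat_descent j (f ∣_ T) g' j' hsq
      ((isParafactorialPair_iff Y').1 h |>.2 (f ⁻¹ᵁ T))
  refine (isParafactorialPair_iff Y).2 ⟨fun O => ?_, hpush⟩
  let j := X.homOfLE (inf_le_left : O ⊓ Y.compl ≤ O)
  have hc := sectBij_structureModule j (hpush O (Coh.structureModule _)
    (fun x => ⟨⊤, trivial, ⟨Scheme.Modules.restrictUnitIso _⟩⟩)) ⊤ _ inf_le_left rfl
  rw [ConcreteCategory.isIso_iff_bijective] at hc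
  have hc' : Function.Bijective (X.presheaf.map (O.ι.opensFunctor.map (homOfLE
    (inf_le_left : ⊤ ⊓ j.opensRange ≤ ⊤))).op) := hc
  rw [← ConcreteCategory.isIso_iff_bijective] at hc' ⊢
  have e1 : O.ι ''ᵁ ⊤ = O := O.ι_image_top
  have e2 : O.ι ''ᵁ (⊤ ⊓ j.opensRange) = O ⊓ Y.compl := by
    rw [top_inf_eq, opensRange_homOfLE_compl, Scheme.Hom.image_preimage_eq_opensRange_inf,
      Scheme.Opens.opensRange_ι]
  haveI := hc'
  haveI : IsIso (X.presheaf.map (eqToHom e1).op) := inferInstance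
  haveI : IsIso (X.presheaf.map (eqToHom e2.symm).op) := inferInstance
  rw [show (homOfLE (inf_le_left : O ⊓ Y.compl ≤ O)).op = (eqToHom e1).op ≫
    (O.ι.opensFunctor.map (homOfLE (inf_le_left : ⊤ ⊓ j.opensRange ≤ ⊤))).op ≫
      (eqToHom e2.symm).op from rfl, X.presheaf.map_comp, X.presheaf.map_comp]
  infer_instance

end

end Groth.Agent.ParaFX
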